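import Mathlib
import Cfsg.Agent.Lib.helper17.SLP.Defs
import Cfsg.Agent.Lib.helper3.SP4.Defs
import Cfsg.Agent.Lib.helper3.STC.Defs
import Cfsg.Agent.Lib.helper3.STC.Defs2
import Cfsg.Agent.Lib.helper3.STC.Defs3
import Cfsg.Agent.Lib.Helper21.STCM.Sys

/-!
# Project SPM (designer helper3): S2292 (10u) and S2296 (10u).  `Sp_2m(F)` (`F` a finite field, `m ≥ 3`) has a presentation on
`k + 6` generators with `r + 35 + 15` relators (`14` if `m = 3`), where `⟨k generators | r relators⟩` is any presentation of the symmetric group `S_m`.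

Generators: those of `S_m` (through `ν : Equiv.Perm ι →* G`) and the six generators `u_a h_a w_a u_b h_b w_b` of the presentation of
`Sp₄(F) = Matrix.symplecticGroup (Fin 2) F` of project SP4 / S2293 (through `lam : Sp₄(F) →* G`), `Sp₄(F)` sitting on the indices `o0 o1`.
The 15 gluing relators (`Glue`):
* `sw` (1): `ν (swap o0 o1) = lam swS` (`swS` = the permutation matrix in `Sp₄`);
* `stab1` (2 × 3): the stabiliser of `o1` in `S_m` centralises the long-root `SL₂` `B1` on the index `1` of `Sp₄`;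
* `stab01` (2): the pointwise stabiliser of `o0 o1` centralises `u_a = x_{e₀ - e₁}(1)`;
* `d4` (1, only if `m ≥ 4`): `[x_{e₀ - e₁}(1), x_{e₂ - e₃}(1)] = 1`;
* `d3` (3): `x_{e₀ - e₁}(1)` commutes with the long-root `SL₂` on the index `o2`;
* `c1`, `c2` (2): `[x_{01}(1), x_{12}(1)] = x_{02}(1)`, `[x_{01}(1), x_{02}(1)] = 1`.
Validated by Todd–Coxeter for `(m, q) = (3,2) (3,3) (3,4) (3,5) (4,2) (4,3) (5,2)`.

In an abstract group `G` the root elements `xr a b t` (`a b : ι ⊕ ι` signed indices as in project STC) are the `ν σ`-conjugates of the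
`lam (tm a' b' t)`; under `Glue` they form a Steinberg system `SysC F ι G` of type `C` (project STC) which generates `G`; `SysC.Rep.injective` then
identifies the presented group with `Sp_2m(F)`.
-/

set_option autoImplicit false

namespace Cfsg.Agent.Lib.helper3.SPM

open Cfsg.Agent.Lib.helper3.STC Cfsg.Agent.Lib.helper3.STC.Mat Cfsg.Agent.Lib.helper17.SLP

universe u v w

/-- `Sp₄(F)`. -/
abbrev Sp4 (F : Type u) [Field F] := ↥(Matrix.symplecticGroup (Fin 2) F)

/-! ## base points -/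

/-- three distinct indices, and a fourth one if there is one. -/
structure Pts (ι : Type w) where
  o0 : ι
  o1 : ι
  o2 : ι
  o3 : Option ι
  h01 : o0 ≠ o1
  h02 : o0 ≠ o2
  h12 : o1 ≠ o2
  h3 : ∀ x ∈ o3, x ≠ o0 ∧ x ≠ o1 ∧ x ≠ o2
  full : o3 = none → ∀ i : ι, i = o0 ∨ i = o1 ∨ i = o2

/-- the two base points as a map `Fin 2 → ι`. -/
def Pts.o {ι : Type w} (p : Pts ι) : Fin 2 → ι := ![p.o0, p.o1]

/-- the signed indices of `Sp₄` as signed indices of `ι`. -/
def pe {ι : Type w} (p : Pts ι) : Fin 2 ⊕ Fin 2 → ι ⊕ ι := Sum.map p.o p.o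

/-- a permutation of the indices acting on the signed indices. -/
def sgm {ι : Type w} (σ : Equiv.Perm ι) : Equiv.Perm (ι ⊕ ι) := Equiv.sumCongr σ σ

/-- the sign of `a` at the index `k` of `Fin 2`. -/
def sn {ι : Type w} (a : ι ⊕ ι) (k : Fin 2) : Fin 2 ⊕ Fin 2 :=
  match a with
  | Sum.inl _ => Sum.inl k
  | Sum.inr _ => Sum.inr k

/-- an explicit permutation with `o0 ↦ i`, `o1 ↦ j` (for `i ≠ j`). -/
def sig2 {ι : Type w} [DecidableEq ι] (p : Pts ι) (i j : ι) : Equiv.Perm ι :=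
  Equiv.swap (Equiv.swap p.o0 i p.o1) j * Equiv.swap p.o0 i

/-- the base points `0 1 2 (3)` of `Fin m`, `m ≥ 3`. -/
def ptsFin (m : ℕ) (hm : 3 ≤ m) : Pts (Fin m) where
  o0 := ⟨0, by omega⟩
  o1 := ⟨1, by omega⟩
  o2 := ⟨2, by omega⟩
  o3 := if h : 4 ≤ m then some ⟨3, by omega⟩ else none
  h01 := by simp [Fin.ext_iff]
  h02 := by simp [Fin.ext_iff]
  h12 := by simp [Fin.ext_iff]
  h3 := by
    intro x hx
    split_ifs at hx with h
    · simp only [Option.mem_def, Option.some.injEq] at hx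
      subst hx
      simp [Fin.ext_iff]
    · simp at hx
  full := by
    intro h i
    split_ifs at h with h4
    have : i.val = 0 ∨ i.val = 1 ∨ i.val = 2 := by have := i.2; omega
    rcases this with h | h | h
    · left; exact Fin.ext h
    · right; left; exact Fin.ext h
    · right; right; exact Fin.ext h

/-! ## the matrix side: permutation matrices and the block embedding of `Sp₄` -/

section Mat

variable {F : Type u} [Field F] {ι : Type w} [Fintype ι] [DecidableEq ι]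

/-- the permutation matrix of `σ` on the signed indices: `e_b ↦ e_(σ b)`. -/
def permSpM (F : Type u) [Field F] (σ : Equiv.Perm ι) : Matrix (ι ⊕ ι) (ι ⊕ ι) F :=
  Matrix.of fun a b => if a = sgm σ b then 1 else 0

open Classical in
/-- the permutations as elements of the symplectic group (row M1: `permSp_coe`). -/
noncomputable def permSp : Equiv.Perm ι →* ↥(Matrix.symplecticGroup ι F) :=
  if h : ∃ φ : Equiv.Perm ι →* ↥(Matrix.symplecticGroup ι F), ∀ σ,
      ((φ σ : ↥(Matrix.symplecticGroup ι F)) : Matrix (ι ⊕ ι) (ι ⊕ ι) F) = permSpM F σ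
  then h.choose else 1

/-- the element of `Sp₄(F)` exchanging the two indices. -/
noncomputable def swS : Sp4 F := permSp (Equiv.swap (0 : Fin 2) 1)

/-- the inclusion matrix of a map of index types: `C i a = [i = f a]`. -/
def inclM (F : Type u) [Field F] {κ : Type*} {I : Type*} [DecidableEq I] (f : κ → I) : Matrix I κ F :=
  Matrix.of fun i a => if i = f a then 1 else 0

/-- the matrix `M` on the coordinates in the range of `f`, the identity elsewhere. -/
def embM {κ : Type*} [Fintype κ] [DecidableEq κ] {I : Type*} [DecidableEq I] (f : κ → I) (M : Matrix κ κ F) :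
    Matrix I I F :=
  1 + inclM F f * (M - 1) * (inclM F f).transpose

open Classical in
/-- the block embedding `Sp₄(F) → Sp(ι, F)` on the indices `o0 o1` (row M2: `rhoS_coe`). -/
noncomputable def rhoS (p : Pts ι) : Sp4 F →* ↥(Matrix.symplecticGroup ι F) :=
  if h : ∃ φ : Sp4 F →* ↥(Matrix.symplecticGroup ι F), ∀ A : Sp4 F,
      ((φ A : ↥(Matrix.symplecticGroup ι F)) : Matrix (ι ⊕ ι) (ι ⊕ ι) F) =
        embM (pe p) (A : Matrix (Fin 2 ⊕ Fin 2) (Fin 2 ⊕ Fin 2) F)
  then h.choose else 1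

/-- the long-root `SL₂` on the index `1` of `Sp₄`, as a subgroup. -/
noncomputable def B1 (F : Type u) [Field F] : Subgroup (Sp4 F) :=
  (matSys (Fin 2) F).XQ (fun a b => ab a = 1 ∧ ab b = 1)

/-- `u_a = x_{e₀ - e₁}(1)`. -/
noncomputable def uA (F : Type u) [Field F] : Sp4 F := tm (Sum.inl 0) (Sum.inl 1) 1

end Mat

/-! ## root elements in an abstract group -/

section Roots

variable {F : Type u} [Field F] {ι : Type w} [DecidableEq ι] {G : Type v} [Group G]

/-- `lam` conjugated by `ν σ`. -/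
def lamC (ν : Equiv.Perm ι →* G) (lam : Sp4 F →* G) (σ : Equiv.Perm ι) : Sp4 F →* G :=
  (MulAut.conj (ν σ)).toMonoidHom.comp lam

/-- the signed indices of `Sp₄` placed at the ordered pair `(i, j)`. -/
def pe2 (i j : ι) : Fin 2 ⊕ Fin 2 → ι ⊕ ι := Sum.map ![i, j] ![i, j]

/-- the copy of `Sp₄(F)` on the ordered pair `(i, j)`. -/
def lamP (p : Pts ι) (ν : Equiv.Perm ι →* G) (lam : Sp4 F →* G) (i j : ι) : Sp4 F →* G :=
  lamC ν lam (sig2 p i j)

/-- the long-root `SL₂` on the index `k`. -/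
noncomputable def LB (p : Pts ι) (ν : Equiv.Perm ι →* G) (lam : Sp4 F →* G) (k : ι) : Subgroup G :=
  (B1 F).map (lamC ν lam (Equiv.swap p.o1 k))

/-- the root element `x_{a b}(t)`: short for `ab a ≠ ab b`, long for `b = ng a`, `1` for `a = b`. -/
noncomputable def xr (p : Pts ι) (ν : Equiv.Perm ι →* G) (lam : Sp4 F →* G) (a b : ι ⊕ ι) (t : F) : G :=
  if a = b then 1
  else if ab a = ab b then lamC ν lam (Equiv.swap p.o1 (ab a)) (tm (sn a 1) (sn b 1) t)
  else lamC ν lam (sig2 p (ab a) (ab b)) (tm (sn a 0) (sn b 1) t)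

/-- `w_{a b}(u)`. -/
noncomputable def wr (p : Pts ι) (ν : Equiv.Perm ι →* G) (lam : Sp4 F →* G) (a b : ι ⊕ ι) (u : F) : G :=
  xr p ν lam a b u * xr p ν lam b a (-u⁻¹) * xr p ν lam a b u

/-- `h_{a b}(u)`. -/
noncomputable def hr (p : Pts ι) (ν : Equiv.Perm ι →* G) (lam : Sp4 F →* G) (a b : ι ⊕ ι) (u : F) : G :=
  wr p ν lam a b u * wr p ν lam a b (-1)

/-- `g` acts monomially on the root elements `xr` (the analogue of `SysC.IsMon` before the system is built). -/
def PMon (p : Pts ι) (ν : Equiv.Perm ι →* G) (lam : Sp4 F →* G) (g : G) (π : Equiv.Perm (ι ⊕ ι))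
    (d : ι ⊕ ι → F) : Prop :=
  (∀ k, d k ≠ 0) ∧ ∀ a b, a ≠ b → ∀ t, g * xr p ν lam a b t * g⁻¹ = xr p ν lam (π a) (π b) (d a * (d b)⁻¹ * t)

/-- The gluing hypotheses. -/
structure Glue (p : Pts ι) (ν : Equiv.Perm ι →* G) (lam : Sp4 F →* G) : Prop where
  /-- the transposition `(o0 o1)` is the permutation matrix of `Sp₄` -/
  sw : ν (Equiv.swap p.o0 p.o1) = lam swS
  /-- the stabiliser of `o1` centralises the long-root `SL₂` on the index `1` -/
  stab1 : ∀ σ : Equiv.Perm ι, σ p.o1 = p.o1 → ∀ g ∈ B1 F, ν σ * lam g * (ν σ)⁻¹ = lam g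
  /-- the pointwise stabiliser of `o0 o1` centralises `u_a` -/
  stab01 : ∀ σ : Equiv.Perm ι, σ p.o0 = p.o0 → σ p.o1 = p.o1 → ν σ * lam (uA F) * (ν σ)⁻¹ = lam (uA F)
  /-- `u_a` commutes with the long-root `SL₂` on the index `o2` -/
  d3 : ∀ g ∈ B1 F, Commute (lam (uA F)) (lamC ν lam (Equiv.swap p.o1 p.o2) g)
  /-- `[x_{e₀ - e₁}(1), x_{e₂ - e₃}(1)] = 1` -/
  d4 : ∀ x ∈ p.o3, Commute (lam (uA F)) (lamC ν lam (Equiv.swap p.o0 p.o2 * Equiv.swap p.o1 x) (uA F))
  /-- `[x_{01}(1), x_{12}(1)] = x_{02}(1)` -/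
  c1 : cm (lam (uA F)) (lamC ν lam (Equiv.swap p.o0 p.o1 * Equiv.swap p.o1 p.o2) (uA F)) =
    lamC ν lam (Equiv.swap p.o1 p.o2) (uA F)
  /-- `[x_{01}(1), x_{02}(1)] = 1` -/
  c2 : Commute (lam (uA F)) (lamC ν lam (Equiv.swap p.o1 p.o2) (uA F))

end Roots

/-! ## words in `FreeGroup (Fin (k + 6))` (the `k` generators of `S_m`, then `u_a h_a w_a u_b h_b w_b`) -/

section Words

variable {F : Type u} [Field F] {ι : Type w} [DecidableEq ι] {k : ℕ}

/-- the copy of `FreeGroup (Fin k)` on the first `k` generators. -/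
def inN : FreeGroup (Fin k) →* FreeGroup (Fin (k + 6)) := FreeGroup.map (Fin.castAdd 6)

/-- the copy of `FreeGroup (Fin 6)` on the last six generators. -/
def inL : FreeGroup (Fin 6) →* FreeGroup (Fin (k + 6)) := FreeGroup.map (Fin.natAdd k)

/-- evaluation of a word of `FreeGroup (Fin (k + 6))`. -/
def evG {G : Type v} [Group G] (s : Fin k → G) (g : Fin 6 → G) : FreeGroup (Fin (k + 6)) →* G :=
  FreeGroup.lift (Fin.append s g)

/-- the word of `ν σ * lam g * (ν σ)⁻¹` (`wN`, `wL` = chosen words of the elements of `S_m`, `Sp₄(F)`). -/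
def Wc (wN : Equiv.Perm ι → FreeGroup (Fin k)) (wL : Sp4 F → FreeGroup (Fin 6)) (σ : Equiv.Perm ι) (g : Sp4 F) :
    FreeGroup (Fin (k + 6)) :=
  inN (wN σ) * inL (wL g) * (inN (wN σ))⁻¹

/-- the 15 (14 if there is no fourth index) gluing relators; `c d` generate the stabiliser of `o1`, `c' d'` the pointwise stabiliser of `o0 o1`,
`b₁ b₂ b₃` generate `B1` (they are `u_b h_b w_b`). -/
noncomputable def wordsGlue (p : Pts ι) (wN : Equiv.Perm ι → FreeGroup (Fin k)) (wL : Sp4 F → FreeGroup (Fin 6))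
    (c d c' d' : Equiv.Perm ι) (b₁ b₂ b₃ : Sp4 F) : List (FreeGroup (Fin (k + 6))) :=
  [inN (wN (Equiv.swap p.o0 p.o1)) * (inL (wL swS))⁻¹] ++
  [cm (inN (wN c)) (inL (wL b₁)), cm (inN (wN c)) (inL (wL b₂)), cm (inN (wN c)) (inL (wL b₃)),
    cm (inN (wN d)) (inL (wL b₁)), cm (inN (wN d)) (inL (wL b₂)), cm (inN (wN d)) (inL (wL b₃))] ++
  [cm (inN (wN c')) (inL (wL (uA F))), cm (inN (wN d')) (inL (wL (uA F)))] ++
  [cm (inL (wL (uA F))) (Wc wN wL (Equiv.swap p.o1 p.o2) b₁), cm (inL (wL (uA F))) (Wc wN wL (Equiv.swap p.o1 p.o2) b₂),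
    cm (inL (wL (uA F))) (Wc wN wL (Equiv.swap p.o1 p.o2) b₃)] ++
  (match p.o3 with
    | some x => [cm (inL (wL (uA F))) (Wc wN wL (Equiv.swap p.o0 p.o2 * Equiv.swap p.o1 x) (uA F))]
    | none => []) ++
  [cm (inL (wL (uA F))) (Wc wN wL (Equiv.swap p.o0 p.o1 * Equiv.swap p.o1 p.o2) (uA F)) *
      (Wc wN wL (Equiv.swap p.o1 p.o2) (uA F))⁻¹,
    cm (inL (wL (uA F))) (Wc wN wL (Equiv.swap p.o1 p.o2) (uA F))]

end Words

end Cfsg.Agent.Lib.helper3.SPM
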