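import Mathlib
import Cfsg.Agent.Lib.helper3.SPM.Defs

/-!
# Project SPM: more definitions (the facts on `Sp₄(F)` used by the abstract side, the commutator families)
-/

set_option autoImplicit false

namespace Cfsg.Agent.Lib.helper3.SPM

open Cfsg.Agent.Lib.helper3.STC Cfsg.Agent.Lib.helper3.STC.Mat Cfsg.Agent.Lib.helper17.SLP

universe u v w

/-- The facts on `Sp₄(F)` used by the abstract side (proved in block M). -/
structure SpFacts (F : Type u) [Field F] : Prop where
  /-- `Sp₄(F)` is generated by `u_a`, the permutation matrix and the long-root `SL₂` on the index `1` -/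
  gen4 : Subgroup.closure ({uA F, swS} ∪ (B1 F : Set (Sp4 F))) = ⊤
  /-- the permutation matrix permutes the root elements -/
  sw_tm : ∀ (a b : Fin 2 ⊕ Fin 2) (t : F), a ≠ b →
    swS * tm a b t * (swS : Sp4 F)⁻¹ = tm (sgm (Equiv.swap 0 1) a) (sgm (Equiv.swap 0 1) b) t
  /-- the long-root `SL₂`'s on the two indices commute -/
  comm01 : ∀ g ∈ B1 F, ∀ g' ∈ B1 F, Commute (swS * g * (swS : Sp4 F)⁻¹) g'
  /-- `Sp₄(F)` is generated by the root elements -/
  esp : (matSys (Fin 2) F).XQ (fun _ _ => True) = ⊤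

section Fam

variable {F : Type u} [Field F] {ι : Type w} [DecidableEq ι] {G : Type v} [Group G]

/-- the family `[x_{ab}(t), x_{bc}(u)] = x_{ac}(t u)`. -/
def P1 (p : Pts ι) (ν : Equiv.Perm ι →* G) (lam : Sp4 F →* G) (a b c : ι ⊕ ι) : Prop :=
  ∀ t u : F, cm (xr p ν lam a b t) (xr p ν lam b c u) = xr p ν lam a c (t * u)

/-- the family `[x_{ab}(t), x_{ad}(u)] = 1`. -/
def P2 (p : Pts ι) (ν : Equiv.Perm ι →* G) (lam : Sp4 F →* G) (a b d : ι ⊕ ι) : Prop :=
  ∀ t u : F, Commute (xr p ν lam a b t) (xr p ν lam a d u)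

/-- the family `[x_{ab}(t), x_{cd}(u)] = 1`. -/
def P4 (p : Pts ι) (ν : Equiv.Perm ι →* G) (lam : Sp4 F →* G) (a b c d : ι ⊕ ι) : Prop :=
  ∀ t u : F, Commute (xr p ν lam a b t) (xr p ν lam c d u)

end Fam

end Cfsg.Agent.Lib.helper3.SPM
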