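import Mathlib
import Cfsg.Agent.Lib.helper3.SPM.Defs
import Cfsg.Agent.Lib.helper3.SPM.Defs2

/-!
# Project SPM: definitions for block P (presentations)
-/

set_option autoImplicit false

namespace Cfsg.Agent.Lib.helper3.SPM

open Cfsg.Agent.Lib.helper3.STC Cfsg.Agent.Lib.helper3.STC.Mat Cfsg.Agent.Lib.helper17.SLP Cfsg.Agent.Lib.helper3.SP4

universe u v w

/-- the six marked generators of `Sp₄(F)` (project SP4): `u_a h_a w_a u_b h_b w_b`. -/
noncomputable def gM {F : Type u} [Field F] (ζ : Fˣ) : Fin 6 → Sp4 F :=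
  ![rhoA (xM 1), rhoA (hM ζ), rhoA wM, rhoB (xM 1), rhoB (hM ζ), rhoB wM]

/-- evaluation of a word of `FreeGroup (Fin k)`. -/
def evN {k : ℕ} {G : Type v} [Group G] (s : Fin k → G) : FreeGroup (Fin k) →* G := FreeGroup.lift s

/-- evaluation of a word of `FreeGroup (Fin 6)`. -/
def evL {G : Type v} [Group G] (g : Fin 6 → G) : FreeGroup (Fin 6) →* G := FreeGroup.lift g

end Cfsg.Agent.Lib.helper3.SPM
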