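import Mathlib
import Cfsg.Agent.Lib.helper3.SPM.Defs
import Cfsg.Agent.Lib.helper3.SPM.Defs2
import Cfsg.Agent.Lib.Helper24.STCI1
import Cfsg.Agent.Lib.Helper20.SPMA1
import Cfsg.Agent.Lib.Helper29.SPMA4
import Cfsg.Agent.Lib.Helper25.SPME3
import Cfsg.Agent.Lib.Helper25.SPME6

/-!
# SPM row E5 (`xr_pair_short`), second writer helper3, under the name `spme5h3_xr_pair_short`
-/

set_option autoImplicit false

namespace Cfsg.Agent.Lib.helper3.SPM

open Cfsg.Agent.Lib.helper3.STC Cfsg.Agent.Lib.helper3.STC.Mat Cfsg.Agent.Lib.helper17.SLP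

universe u v w v'

section main
variable {F : Type u} [Field F] {ι : Type w} [Fintype ι] [DecidableEq ι] {G : Type v} [Group G]
  (p : Pts ι) (ν : Equiv.Perm ι →* G) (lam : Sp4 F →* G)

theorem spme5h3_sn0 {a' : Fin 2 ⊕ Fin 2} (ha : ab a' = 0) : sn a' 0 = a' := by
  rcases a' with k | k <;> · simp only [ab] at ha; subst ha; rfl

theorem spme5h3_sn1 {a' : Fin 2 ⊕ Fin 2} (ha : ab a' = 1) : sn a' 1 = a' := by
  rcases a' with k | k <;> · simp only [ab] at ha; subst ha; rfl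

theorem spme5h3_sn0' {a' : Fin 2 ⊕ Fin 2} (ha : ab a' = 1) : sn a' 0 = sgm (Equiv.swap 0 1) a' := by
  rcases a' with k | k <;> · simp only [ab] at ha; subst ha; rfl

theorem spme5h3_sn1' {a' : Fin 2 ⊕ Fin 2} (ha : ab a' = 0) : sn a' 1 = sgm (Equiv.swap 0 1) a' := by
  rcases a' with k | k <;> · simp only [ab] at ha; subst ha; rfl

theorem spme5h3_sw_sw (a' : Fin 2 ⊕ Fin 2) : sgm (Equiv.swap 0 1) (sgm (Equiv.swap 0 1) a') = a' := by
  rcases a' with k | k <;> simp [sgm]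

theorem spme5h3_fin2 (k : Fin 2) : k = 0 ∨ k = 1 := by
  fin_cases k
  · left; rfl
  · right; rfl

/-- the case `ab a' = 0`, `ab b' = 1` -/
theorem spme5h3_case01 {i j : ι} (hij : i ≠ j) {a' b' : Fin 2 ⊕ Fin 2} (ha : ab a' = 0) (hb : ab b' = 1) (t : F) :
    lamP p ν lam i j (tm a' b' t) = xr p ν lam (pe2 i j a') (pe2 i j b') t := by
  have h1 : ab (pe2 i j a') = i := by rw [ab_pe2, ha]; rfl
  have h2 : ab (pe2 i j b') = j := by rw [ab_pe2, hb]; rfl
  have hne : pe2 i j a' ≠ pe2 i j b' := fun h => hij (by have e := congrArg ab h; rw [h1, h2] at e; exact e)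
  have hne' : ¬ ab (pe2 i j a') = ab (pe2 i j b') := by rw [h1, h2]; exact hij
  unfold xr
  rw [if_neg hne, if_neg hne', h1, h2, sn_pe2_fst, sn_pe2_fst, spme5h3_sn0 ha, spme5h3_sn1 hb]
  rfl

/-- the case `ab a' = 1`, `ab b' = 0` -/
theorem spme5h3_case10 (H : Glue p ν lam) (hS : SpFacts F) {i j : ι} (hij : i ≠ j) {a' b' : Fin 2 ⊕ Fin 2}
    (ha : ab a' = 1) (hb : ab b' = 0) (t : F) :
    lamP p ν lam i j (tm a' b' t) = xr p ν lam (pe2 i j a') (pe2 i j b') t := by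
  have h1 : ab (pe2 i j a') = j := by rw [ab_pe2, ha]; rfl
  have h2 : ab (pe2 i j b') = i := by rw [ab_pe2, hb]; rfl
  have hne : pe2 i j a' ≠ pe2 i j b' := fun h => hij (by have e := congrArg ab h; rw [h1, h2] at e; exact e.symm)
  have hne' : ¬ ab (pe2 i j a') = ab (pe2 i j b') := by rw [h1, h2]; exact fun h => hij h.symm
  have hab' : a' ≠ b' := fun h => by rw [h, hb] at ha; exact absurd ha (by decide)
  have hsw : sgm (Equiv.swap (0 : Fin 2) 1) a' ≠ sgm (Equiv.swap (0 : Fin 2) 1) b' :=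
    fun h => hab' ((sgm (Equiv.swap (0 : Fin 2) 1)).injective h)
  unfold xr
  rw [if_neg hne, if_neg hne', h1, h2, sn_pe2_fst, sn_pe2_fst, spme5h3_sn0' ha, spme5h3_sn1' hb]
  unfold lamP
  have e := hS.sw_tm (sgm (Equiv.swap 0 1) a') (sgm (Equiv.swap 0 1) b') t hsw
  rw [spme5h3_sw_sw, spme5h3_sw_sw] at e
  rw [← e, ← spme6_lamC_swap p ν lam H]
  apply lamC_congr p ν lam H hS
  · rw [Equiv.Perm.mul_apply, Equiv.swap_apply_left, sig2_o1 p hij, sig2_o0 p hij.symm]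
  · rw [Equiv.Perm.mul_apply, Equiv.swap_apply_right, sig2_o0 p hij, sig2_o1 p hij.symm]

/-- E5 (second writer): the short root elements of a pair. -/
theorem spme5h3_xr_pair_short (H : Glue p ν lam) (hS : SpFacts F) {i j : ι} (hij : i ≠ j) {a' b' : Fin 2 ⊕ Fin 2}
    (hab' : ab a' ≠ ab b') (t : F) :
    lamP p ν lam i j (tm a' b' t) = xr p ν lam (pe2 i j a') (pe2 i j b') t := by
  rcases spme5h3_fin2 (ab a') with ha | ha <;> rcases spme5h3_fin2 (ab b') with hb | hb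
  · exact absurd (ha.trans hb.symm) hab'
  · exact spme5h3_case01 p ν lam hij ha hb t
  · exact spme5h3_case10 p ν lam H hS hij ha hb t
  · exact absurd (ha.trans hb.symm) hab'

end main

end Cfsg.Agent.Lib.helper3.SPM
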