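import Mathlib
import Cfsg.Agent.Lib.helper3.SPM.Defs
import Cfsg.Agent.Lib.helper3.SPM.Defs2
import Cfsg.Agent.Lib.Helper24.STCI1
import Cfsg.Agent.Lib.Helper12.SPMT2

/-!
# SPM row Y1 (`xr_comm`), core: the commutation axiom from the statements of I3 I5 T7 C3
-/

set_option autoImplicit false

namespace Cfsg.Agent.Lib.helper3.SPM

open Cfsg.Agent.Lib.helper3.STC Cfsg.Agent.Lib.helper3.STC.Mat Cfsg.Agent.Lib.helper17.SLP

universe u v w

section main
variable {F : Type u} [Field F] {ι : Type w} [Fintype ι] [DecidableEq ι] {G : Type v} [Group G]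
  (p : Pts ι) (ν : Equiv.Perm ι →* G) (lam : Sp4 F →* G)

theorem spmy1_exists_ne {ι' : Type w} (p : Pts ι') (i : ι') : ∃ j : ι', i ≠ j := by
  by_cases h : i = p.o0
  · exact ⟨p.o1, by rw [h]; exact p.h01⟩
  · exact ⟨p.o0, h⟩

/-- Y1, core. -/
theorem spmy1_core
    (hpair : ∀ {i j : ι} (_ : i ≠ j) {a b c d : ι ⊕ ι}
      (_ : ab a = i ∨ ab a = j) (_ : ab b = i ∨ ab b = j) (_ : ab c = i ∨ ab c = j) (_ : ab d = i ∨ ab d = j)
      (_ : a ≠ b) (_ : c ≠ d) (_ : b ≠ c) (_ : a ≠ d) (_ : b ≠ ng d) (_ : a ≠ ng c) (t u : F),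
      xr p ν lam a b t * xr p ν lam c d u = xr p ν lam c d u * xr p ν lam a b t)
    (hd3 : ∀ {a b : ι ⊕ ι} (_ : ab a ≠ ab b) {k : ι} (_ : k ≠ ab a) (_ : k ≠ ab b)
      (t : F) {g : G} (_ : g ∈ LB p ν lam k), Commute (xr p ν lam a b t) g)
    (hp2 : ∀ {a b c : ι ⊕ ι}, ab a ≠ ab b → ab b ≠ ab c → ab a ≠ ab c → P2 p ν lam a b c)
    (hp4 : ∀ {a b c e : ι ⊕ ι}, ab a ≠ ab b → ab a ≠ ab c → ab a ≠ ab e → ab b ≠ ab c → ab b ≠ ab e →
      ab c ≠ ab e → P4 p ν lam a b c e)
    (hsym : ∀ {a b : ι ⊕ ι} (_ : a ≠ b) (t : F),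
      xr p ν lam a b t = xr p ν lam (ng b) (ng a) (-(sg a * sg b * t)))
    {a b c d : ι ⊕ ι} (hab : a ≠ b) (hcd : c ≠ d) (hbc : b ≠ c) (had : a ≠ d)
    (hbd : b ≠ ng d) (hac : a ≠ ng c) (t u : F) :
    xr p ν lam a b t * xr p ν lam c d u = xr p ν lam c d u * xr p ν lam a b t := by
  have hnab : ng b ≠ ng a := fun h => hab (STC.ng_inj.1 h).symm
  have hncd : ng d ≠ ng c := fun h => hcd (STC.ng_inj.1 h).symm
  by_cases hAB : ab a = ab b
  · -- `b = ng a`
    have hb : b = ng a := by
      rcases ab_eq_iff.1 hAB with h | h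
      · exact absurd h hab
      · rw [h, STC.ng_ng]
    by_cases hCD : ab c = ab d
    · -- both long: everything in a pair
      by_cases hAC : ab a = ab c
      · obtain ⟨j, hj⟩ := spmy1_exists_ne p (ab a)
        exact hpair hj (Or.inl rfl) (Or.inl hAB.symm) (Or.inl hAC.symm) (Or.inl (hAC.trans hCD).symm)
          hab hcd hbc had hbd hac t u
      · exact hpair hAC (Or.inl rfl) (Or.inl hAB.symm) (Or.inr rfl) (Or.inr hCD.symm)
          hab hcd hbc had hbd hac t u
    · by_cases hAC : ab a = ab c
      · exact hpair (hAC ▸ hCD : ab a ≠ ab d) (Or.inl rfl) (Or.inl hAB.symm) (Or.inl hAC.symm) (Or.inr rfl)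
          hab hcd hbc had hbd hac t u
      · by_cases hAD : ab a = ab d
        · exact hpair hAC (Or.inl rfl) (Or.inl hAB.symm) (Or.inr rfl) (Or.inl hAD.symm)
            hab hcd hbc had hbd hac t u
        · -- `ab a`, `ab c`, `ab d` distinct
          have hmem : xr p ν lam a b t ∈ LB p ν lam (ab a) := by
            rw [hb]; exact xr_mem_LB p ν lam a t
          exact ((hd3 hCD hAC hAD u hmem).eq).symm
  · by_cases hCD : ab c = ab d
    · have hd : d = ng c := by
        rcases ab_eq_iff.1 hCD with h | h
        · exact absurd h hcd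
        · rw [h, STC.ng_ng]
      by_cases hCA : ab c = ab a
      · exact hpair hAB (Or.inl rfl) (Or.inr rfl) (Or.inl hCA) (Or.inl (hCD.symm.trans hCA))
          hab hcd hbc had hbd hac t u
      · by_cases hCB : ab c = ab b
        · exact hpair hAB (Or.inl rfl) (Or.inr rfl) (Or.inr hCB) (Or.inr (hCD.symm.trans hCB))
            hab hcd hbc had hbd hac t u
        · have hmem : xr p ν lam c d u ∈ LB p ν lam (ab c) := by
            rw [hd]; exact xr_mem_LB p ν lam c u
          exact (hd3 hAB hCA hCB t hmem).eq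
    · -- both short
      by_cases hAC : ab a = ab c
      · by_cases hBD : ab b = ab d
        · exact hpair hAB (Or.inl rfl) (Or.inr rfl) (Or.inl hAC.symm) (Or.inr hBD.symm)
            hab hcd hbc had hbd hac t u
        · -- `a = c`
          have hc : c = a := by
            rcases ab_eq_iff.1 hAC with h | h
            · exact h.symm
            · exact absurd h hac
          subst hc
          exact (hp2 hAB hBD hCD t u).eq
      · by_cases hAD : ab a = ab d
        · by_cases hBC : ab b = ab c
          · exact hpair hAB (Or.inl rfl) (Or.inr rfl) (Or.inr hBC.symm) (Or.inl hAD.symm)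
              hab hcd hbc had hbd hac t u
          · -- `d = ng a`
            have hd : d = ng a := by
              rcases ab_eq_iff.1 hAD with h | h
              · exact absurd h had
              · rw [h, STC.ng_ng]
            subst hd
            rw [hsym hcd u, STC.ng_ng]
            have h1 : ab b ≠ ab (ng c) := by rw [ab_ng]; exact hBC
            have h2 : ab a ≠ ab (ng c) := by rw [ab_ng]; exact hAC
            exact (hp2 hAB h1 h2 t _).eq
        · by_cases hBC : ab b = ab c
          · -- `c = ng b`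
            have hc : c = ng b := by
              rcases ab_eq_iff.1 hBC with h | h
              · exact absurd h hbc
              · rw [h, STC.ng_ng]
            subst hc
            rw [hsym hab t]
            have hBD : ab b ≠ ab d := by rw [← ab_ng b]; exact hCD
            have h1 : ab (ng b) ≠ ab (ng a) := by rw [ab_ng, ab_ng]; exact fun h => hAB h.symm
            have h2 : ab (ng a) ≠ ab d := by rw [ab_ng]; exact hAD
            have h3 : ab (ng b) ≠ ab d := by rw [ab_ng]; exact hBD
            exact (hp2 h1 h2 h3 _ u).eq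
          · by_cases hBD : ab b = ab d
            · -- `b = d`
              have hd : d = b := by
                rcases ab_eq_iff.1 hBD with h | h
                · exact h.symm
                · exact absurd h hbd
              subst hd
              rw [hsym hab t, hsym hcd u]
              have h1 : ab (ng d) ≠ ab (ng a) := by rw [ab_ng, ab_ng]; exact fun h => hAB h.symm
              have h2 : ab (ng a) ≠ ab (ng c) := by rw [ab_ng, ab_ng]; exact hAC
              have h3 : ab (ng d) ≠ ab (ng c) := by rw [ab_ng, ab_ng]; exact fun h => hCD h.symm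
              exact (hp2 h1 h2 h3 _ _).eq
            · exact (hp4 hAB hAC hAD hBC hBD hCD t u).eq

end main

end Cfsg.Agent.Lib.helper3.SPM
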