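import Mathlib
import Cfsg.Agent.Lib.helper3.SPM.Defs
import Cfsg.Agent.Lib.helper3.SPM.Defs2
import Cfsg.Agent.Lib.helper3.SPM.DefsP
import Cfsg.Agent.Lib.helper3.SP4X

/-!
# SPM row P05 (`sp4_marked`): the marked presentation of `Sp₄(F)` with its universal property
-/

set_option autoImplicit false

namespace Cfsg.Agent.Lib.helper3.SPM

open Cfsg.Agent.Lib.helper3.STC Cfsg.Agent.Lib.helper3.STC.Mat Cfsg.Agent.Lib.helper17.SLP Cfsg.Agent.Lib.helper3.SP4

universe u v w v'

section P

variable {F : Type u} [Field F]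

theorem spmp05_evL_eq {G : Type v} [Group G] (g : Fin 6 → G) :
    evL g = ev6 (g 0) (g 1) (g 2) (g 3) (g 4) (g 5) := by
  apply FreeGroup.ext_hom
  intro i
  fin_cases i <;> simp [evL, ev6]

theorem spmp05_range {G : Type v} (g : Fin 6 → G) :
    Set.range g = {g 0, g 1, g 2, g 3, g 4, g 5} := by
  ext x
  simp only [Set.mem_insert_iff, Set.mem_singleton_iff, Set.mem_range]
  constructor
  · rintro ⟨i, rfl⟩
    fin_cases i
    · left; rfl
    · right; left; rfl
    · right; right; left; rfl
    · right; right; right; left; rfl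
    · right; right; right; right; left; rfl
    · right; right; right; right; right; rfl
  · rintro (rfl | rfl | rfl | rfl | rfl | rfl)
    · exact ⟨0, rfl⟩
    · exact ⟨1, rfl⟩
    · exact ⟨2, rfl⟩
    · exact ⟨3, rfl⟩
    · exact ⟨4, rfl⟩
    · exact ⟨5, rfl⟩

theorem sp4_marked [Fintype F] (ζ : Fˣ) (hζ : ∀ y : Fˣ, y ∈ Subgroup.zpowers ζ) :
    ∃ L6 : List (FreeGroup (Fin 6)), L6.length ≤ 35 ∧
      (∀ r ∈ L6, evL (gM ζ) r = 1) ∧
      Subgroup.closure (Set.range (gM (F := F) ζ)) = ⊤ ∧
      ∀ (G : Type) [Group G] (g : Fin 6 → G), (∀ r ∈ L6, evL g r = 1) →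
        ∃ φ : Sp4 F →* G, ∀ i, φ (gM ζ i) = g i := by
  classical
  obtain ⟨L, az, hlen, -, hLrel, haz, hL⟩ := sp4x_sl_hom (F := F) ζ hζ
  obtain ⟨hrelM, hgenM⟩ := sp4x_words_M ζ hζ L az hLrel haz
  set L6 : List (FreeGroup (Fin 6)) := L.map inA ++ L.map inB ++ wordsS6 (inA az) with hL6
  have hrel6 : ∀ r ∈ L6, evL (gM (F := F) ζ) r = 1 := by
    intro r hr
    rw [spmp05_evL_eq]
    exact hrelM r hr
  have hgen6 : Subgroup.closure (Set.range (gM (F := F) ζ)) = ⊤ := by
    rw [spmp05_range]
    exact hgenM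
  refine ⟨L6, ?_, hrel6, hgen6, ?_⟩
  · simp only [hL6, List.length_append, List.length_map, wordsS6, List.length_cons, List.length_nil]
    omega
  · -- the presented group
    set rels : Set (FreeGroup (Fin 6)) := (↑L6.toFinset : Set (FreeGroup (Fin 6))) with hrels
    have hmem : ∀ r, r ∈ rels ↔ r ∈ L6 := by
      intro r
      simp [hrels]
    have hr0 : ∀ r ∈ rels, FreeGroup.lift (gM (F := F) ζ) r = 1 := by
      intro r hr
      exact hrel6 r ((hmem r).1 hr)
    let φ₀ : PresentedGroup rels →* Sp4 F := PresentedGroup.toGroup hr0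
    have hφ₀ : ∀ i, φ₀ (PresentedGroup.of i) = gM ζ i := fun i => PresentedGroup.toGroup.of hr0
    have hsurj : Function.Surjective φ₀ := by
      rw [← MonoidHom.range_eq_top, eq_top_iff, ← hgen6, Subgroup.closure_le]
      rintro x ⟨i, rfl⟩
      exact ⟨PresentedGroup.of i, hφ₀ i⟩
    have hmk : ∀ x : FreeGroup (Fin 6),
        evL (fun i => (PresentedGroup.of i : PresentedGroup rels)) x = PresentedGroup.mk rels x := by
      intro x
      have h : evL (fun i => (PresentedGroup.of i : PresentedGroup rels)) = PresentedGroup.mk rels := by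
        apply FreeGroup.ext_hom
        intro i
        simp [evL, PresentedGroup.of]
      rw [h]
    have hcl : Subgroup.closure {(PresentedGroup.of 0 : PresentedGroup rels), PresentedGroup.of 1,
        PresentedGroup.of 2, PresentedGroup.of 3, PresentedGroup.of 4, PresentedGroup.of 5} = ⊤ := by
      have h := spmp05_range (fun i => (PresentedGroup.of i : PresentedGroup rels))
      rw [← h]
      exact PresentedGroup.closure_range_of rels
    have hrelP : ∀ r ∈ L6, ev6 (PresentedGroup.of 0 : PresentedGroup rels) (PresentedGroup.of 1)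
        (PresentedGroup.of 2) (PresentedGroup.of 3) (PresentedGroup.of 4) (PresentedGroup.of 5) r = 1 := by
      intro r hr
      have h := spmp05_evL_eq (fun i => (PresentedGroup.of i : PresentedGroup rels))
      rw [← h, hmk]
      exact (PresentedGroup.mk_eq_one_iff).2 (Subgroup.subset_normalClosure ((hmem r).2 hr))
    obtain ⟨φa, φb, H, -, hgen'⟩ := sp4x_hyp_of_words ζ L az haz hL (PresentedGroup rels) _ _ _ _ _ _ hcl hrelP
    have R := tor4 ζ hζ φa φb H
    obtain ⟨hfin, hle⟩ := sp4x_card_le_sp4 ζ hζ φa φb H hgen'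
    have hT := (TT_card φa φb R).1
    have hle' : Nat.card (PresentedGroup rels) ≤ Nat.card (Sp4 F) := by
      refine le_trans hle ?_
      rw [card_Sp4]
      exact Nat.mul_le_mul_right _ (Nat.mul_le_mul_right _ hT)
    have hbij : Function.Bijective φ₀ := hsurj.bijective_of_nat_card_le hle'
    let e : PresentedGroup rels ≃* Sp4 F := MulEquiv.ofBijective φ₀ hbij
    have he : ∀ i, e.symm (gM ζ i) = PresentedGroup.of i := by
      intro i
      rw [MulEquiv.symm_apply_eq]
      exact (hφ₀ i).symm
    intro G _ g hg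
    have hrg : ∀ r ∈ rels, FreeGroup.lift g r = 1 := by
      intro r hr
      exact hg r ((hmem r).1 hr)
    refine ⟨(PresentedGroup.toGroup hrg).comp e.symm.toMonoidHom, ?_⟩
    intro i
    simp only [MonoidHom.comp_apply, MulEquiv.coe_toMonoidHom, he]
    exact PresentedGroup.toGroup.of hrg

end P

end Cfsg.Agent.Lib.helper3.SPM
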